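import Cfsg.Agent.H464.RM.Count
import Cfsg.Agent.H573.RM.MonTwo
import Cfsg.Agent.H715.Mon.Exact
import Cfsg.Agent.H346.DP.MonCent
import Cfsg.Agent.S3331

/-!
# S3849, P11: the Monster, the pairs settled by the order of a centralizer (helper23)

`(2,17)`, `(2,23)`, `(3,17)`, `(3,19)`, `(3,23)`, `(5,19)`, `(5,31)` from the orders `2856`, `1140`, `552`, `186`;
`(3,41)`, `(5,71)` from the possible orders of the centralizers of the elements of order 41, 71.
-/

set_option autoImplicit false
set_option maxRecDepth 100000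

namespace Cfsg.Agent.H23.RM.Mon

open Subgroup Cfsg Cfsg.Agent.H464.RM Cfsg.Agent.H573.RM.Mon
open Cfsg.Agent.BpSpor.MBigModel Cfsg.Agent.H346.DP.MonCent

universe u

section cent

variable {S : Type u} [Group S] (h : Spor.IsoM S) {x : S}

include h

theorem cent17 (hx : orderOf x = 17) : Nat.card (centralizer ({x} : Set S)) = 2856 :=
  H715.Mon.Exact.M.cent17 (fun _ _ _ X hX hC => S3331.result X hX hC) h hx

theorem cent19 (hx : orderOf x = 19) : Nat.card (centralizer ({x} : Set S)) = 1140 :=
  H715.Mon.Exact.M.cent19 (fun _ _ _ X hX hC => S3331.result X hX hC) h hx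

theorem cent23 (hx : orderOf x = 23) : Nat.card (centralizer ({x} : Set S)) = 552 :=
  H715.Mon.Exact.M.cent23 (fun _ _ _ X hX hC => S3331.result X hX hC) h hx

theorem cent31 (hx : orderOf x = 31) : Nat.card (centralizer ({x} : Set S)) = 186 :=
  H715.Mon.Exact.M.cent31 (fun _ _ _ X hX hC => S3331.result X hX hC) h hx

end cent

section pairs

variable {S : Type u} [Group S] [Finite S] [IsSimpleGroup S] (h : Spor.IsoM S)

include h

theorem no2_m_17 : ¬ H571.DExt.Dom ({2, 17} : Set ℕ) S :=
  nd_cent' (a := 46) (c := 2856) (by norm_num) (by norm_num) (by norm_num) (card_m h) (fun _ hx => cent17 h hx)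
    (by decide +kernel)

theorem no2_m_23 : ¬ H571.DExt.Dom ({2, 23} : Set ℕ) S :=
  nd_cent' (a := 46) (c := 552) (by norm_num) (by norm_num) (by norm_num) (card_m h) (fun _ hx => cent23 h hx)
    (by decide +kernel)

theorem no_m_3_17 : ¬ H571.DExt.Dom ({3, 17} : Set ℕ) S :=
  nd_cent' (a := 20) (c := 2856) (by norm_num) (by norm_num) (by norm_num) (card_m h) (fun _ hx => cent17 h hx)
    (by decide +kernel)

theorem no_m_3_19 : ¬ H571.DExt.Dom ({3, 19} : Set ℕ) S :=
  nd_cent' (a := 20) (c := 1140) (by norm_num) (by norm_num) (by norm_num) (card_m h) (fun _ hx => cent19 h hx)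
    (by decide +kernel)

theorem no_m_3_23 : ¬ H571.DExt.Dom ({3, 23} : Set ℕ) S :=
  nd_cent' (a := 20) (c := 552) (by norm_num) (by norm_num) (by norm_num) (card_m h) (fun _ hx => cent23 h hx)
    (by decide +kernel)

theorem no_m_5_19 : ¬ H571.DExt.Dom ({5, 19} : Set ℕ) S :=
  nd_cent' (a := 9) (c := 1140) (by norm_num) (by norm_num) (by norm_num) (card_m h) (fun _ hx => cent19 h hx)
    (by decide +kernel)

theorem no_m_5_31 : ¬ H571.DExt.Dom ({5, 31} : Set ℕ) S :=
  nd_cent' (a := 9) (c := 186) (by norm_num) (by norm_num) (by norm_num) (card_m h) (fun _ hx => cent31 h hx)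
    (by decide +kernel)

end pairs

/-! ### orders 41 and 71 -/

/-- the form of `|C(x)|`, `x` of order 41 -/
theorem form_41 {x : MG} (hx : orderOf x = 41) : ∃ a < 8, ∃ b < 6, ∃ d < 3, ∃ g < 2, ¬ (0 < a ∧ 0 < g) ∧
    Nat.card (centralizer ({x} : Set MG)) = 41 * (3 ^ a * (5 ^ b * (13 ^ d * 71 ^ g))) := by
  have hfin := finite
  set c := Nat.card (centralizer ({x} : Set MG)) with hc
  have hc0 : c ≠ 0 := Nat.card_pos.ne'
  have hcM : c ∣ NM := by
    have := Subgroup.card_subgroup_dvd_card (centralizer ({x} : Set MG))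
    rwa [card_MG] at this
  have h41 : 41 ∣ c := by
    rw [← hx]
    exact Subgroup.orderOf_dvd_natCard _ (mem_centralizer_singleton_iff.2 rfl)
  have hprimes : ∀ q, q.Prime → q ∣ c → q ∈ ({41, 3, 5, 13, 71} : Finset ℕ) := by
    intro q hq hd
    have h1 := H346.DP.MonCent.mem_primes hq (hd.trans hcM)
    have h2 : q ∉ ([2, 11, 17, 19, 23, 29, 31, 47, 59] : List ℕ) := fun h => not_common (Or.inl rfl) hx h hd
    have h3 : q ≠ 7 := by
      rintro rfl
      exact not_seven_41 hx hd
    simp only [List.mem_cons, List.not_mem_nil, or_false, not_or] at h1 h2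
    simp only [Finset.mem_insert, Finset.mem_singleton]
    omega
  have e41 : c.factorization 41 = 1 := fact_eq (by norm_num) hc0 (by rw [pow_one]; exact h41) fun h => by
    have := h.trans hcM
    norm_num at this
  have e71 : c.factorization 71 < 2 := fact_lt (by norm_num) hc0 fun h => by
    have := h.trans hcM
    norm_num at this
  have e3 := fact_lt Nat.prime_three hc0 (not_three (Or.inl rfl) hx)
  have e5 := fact_lt Nat.prime_five hc0 (not_five (Or.inl rfl) hx)
  have e13 := fact_lt (q := 13) (by norm_num) hc0 (not_thirteen (Or.inl rfl) hx)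
  refine ⟨_, e3, _, e5, _, e13, _, e71, ?_, ?_⟩
  · rintro ⟨ha, hb⟩
    exact not_three_and hx ((Nat.Prime.dvd_iff_one_le_factorization Nat.prime_three hc0).2 ha)
      ((Nat.Prime.dvd_iff_one_le_factorization (by norm_num) hc0).2 hb)
  · conv_lhs => rw [H346.DP.MonCent.eq_prod hc0 _ hprimes]
    rw [Finset.prod_insert (by decide), Finset.prod_insert (by decide), Finset.prod_insert (by decide),
      Finset.prod_insert (by decide), Finset.prod_singleton, e41, pow_one]

/-- the form of `|C(x)|`, `x` of order 71 -/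
theorem form_71 {x : MG} (hx : orderOf x = 71) : ∃ a < 7, ∃ b < 6, ∃ d < 3, ∃ g < 2, ¬ (0 < a ∧ 0 < g) ∧
    Nat.card (centralizer ({x} : Set MG)) = 71 * (7 ^ a * (5 ^ b * (13 ^ d * 41 ^ g))) := by
  have hfin := finite
  set c := Nat.card (centralizer ({x} : Set MG)) with hc
  have hc0 : c ≠ 0 := Nat.card_pos.ne'
  have hcM : c ∣ NM := by
    have := Subgroup.card_subgroup_dvd_card (centralizer ({x} : Set MG))
    rwa [card_MG] at this
  have h71 : 71 ∣ c := by
    rw [← hx]
    exact Subgroup.orderOf_dvd_natCard _ (mem_centralizer_singleton_iff.2 rfl)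
  have hprimes : ∀ q, q.Prime → q ∣ c → q ∈ ({71, 7, 5, 13, 41} : Finset ℕ) := by
    intro q hq hd
    have h1 := H346.DP.MonCent.mem_primes hq (hd.trans hcM)
    have h2 : q ∉ ([2, 11, 17, 19, 23, 29, 31, 47, 59] : List ℕ) := fun h => not_common (Or.inr rfl) hx h hd
    have h3 : q ≠ 3 := by
      rintro rfl
      exact not_three_71 hx hd
    simp only [List.mem_cons, List.not_mem_nil, or_false, not_or] at h1 h2
    simp only [Finset.mem_insert, Finset.mem_singleton]
    omega
  have e71 : c.factorization 71 = 1 := fact_eq (by norm_num) hc0 (by rw [pow_one]; exact h71) fun h => by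
    have := h.trans hcM
    norm_num at this
  have e41 : c.factorization 41 < 2 := fact_lt (by norm_num) hc0 fun h => by
    have := h.trans hcM
    norm_num at this
  have e7 : c.factorization 7 < 7 := fact_lt (by norm_num) hc0 fun h => by
    have := h.trans hcM
    norm_num at this
  have e5 := fact_lt Nat.prime_five hc0 (not_five (Or.inr rfl) hx)
  have e13 := fact_lt (q := 13) (by norm_num) hc0 (not_thirteen (Or.inr rfl) hx)
  refine ⟨_, e7, _, e5, _, e13, _, e41, ?_, ?_⟩
  · rintro ⟨ha, hb⟩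
    exact not_seven_and hx ((Nat.Prime.dvd_iff_one_le_factorization (by norm_num) hc0).2 ha)
      ((Nat.Prime.dvd_iff_one_le_factorization (by norm_num) hc0).2 hb)
  · conv_lhs => rw [H346.DP.MonCent.eq_prod hc0 _ hprimes]
    rw [Finset.prod_insert (by decide), Finset.prod_insert (by decide), Finset.prod_insert (by decide),
      Finset.prod_insert (by decide), Finset.prod_singleton, e71, pow_one]

/-- transport to the model -/
theorem exists_model {S : Type u} [Group S] (h : Spor.IsoM S) (x : S) : ∃ y : MG, orderOf y = orderOf x ∧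
    Nat.card (centralizer ({x} : Set S)) = Nat.card (centralizer ({y} : Set MG)) := by
  obtain ⟨e⟩ := h
  obtain ⟨f⟩ := Cfsg.Agent.MonsterP.Equiv.equiv
  let g := e.trans f
  refine ⟨g x, MulEquiv.orderOf_eq g x, Nat.card_congr ⟨fun a => ⟨g a, ?_⟩, fun a => ⟨g.symm a, ?_⟩,
    fun a => Subtype.ext (g.symm_apply_apply _), fun a => Subtype.ext (g.apply_symm_apply _)⟩⟩
  · rw [mem_centralizer_singleton_iff, ← map_mul, mem_centralizer_singleton_iff.1 a.2, map_mul]
  · rw [mem_centralizer_singleton_iff]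
    apply g.injective
    rw [map_mul, map_mul, g.apply_symm_apply]
    exact mem_centralizer_singleton_iff.1 a.2

set_option synthInstance.maxHeartbeats 400000 in
set_option synthInstance.maxSize 2000 in
theorem chk_3_41 : ∀ a < 8, ∀ b < 6, ∀ d < 3, ∀ g < 2, ¬ (0 < a ∧ 0 < g) →
    cchk NM 3 41 20 (41 * (3 ^ a * (5 ^ b * (13 ^ d * 71 ^ g)))) = true := by
  decide +kernel

set_option synthInstance.maxHeartbeats 400000 in
set_option synthInstance.maxSize 2000 in
theorem chk_5_71 : ∀ a < 7, ∀ b < 6, ∀ d < 3, ∀ g < 2, ¬ (0 < a ∧ 0 < g) →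
    cchk NM 5 71 9 (71 * (7 ^ a * (5 ^ b * (13 ^ d * 41 ^ g)))) = true := by
  decide +kernel

theorem no_m_3_41 {S : Type u} [Group S] [Finite S] [IsSimpleGroup S] (h : Spor.IsoM S) :
    ¬ H571.DExt.Dom ({3, 41} : Set ℕ) S := by
  have hF : Fact (Nat.Prime 41) := ⟨by norm_num⟩
  obtain ⟨x, hx⟩ := exists_prime_orderOf_dvd_card' (G := S) 41 (by rw [card_m h]; norm_num)
  obtain ⟨y, hy, hc⟩ := exists_model h x
  obtain ⟨a, ha, b, hb, d, hd, g, hg, hag, hcy⟩ := form_41 (hy.trans hx)
  exact nd_cent (a := 20) (by norm_num) (by norm_num) (by norm_num) (card_m h) hx (hc.trans hcy)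
    (chk_3_41 a ha b hb d hd g hg hag)

theorem no_m_5_71 {S : Type u} [Group S] [Finite S] [IsSimpleGroup S] (h : Spor.IsoM S) :
    ¬ H571.DExt.Dom ({5, 71} : Set ℕ) S := by
  have hF : Fact (Nat.Prime 71) := ⟨by norm_num⟩
  obtain ⟨x, hx⟩ := exists_prime_orderOf_dvd_card' (G := S) 71 (by rw [card_m h]; norm_num)
  obtain ⟨y, hy, hc⟩ := exists_model h x
  obtain ⟨a, ha, b, hb, d, hd, g, hg, hag, hcy⟩ := form_71 (hy.trans hx)
  exact nd_cent (a := 9) (by norm_num) (by norm_num) (by norm_num) (card_m h) hx (hc.trans hcy)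
    (chk_5_71 a ha b hb d hd g hg hag)

end Cfsg.Agent.H23.RM.Mon
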