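import Cfsg.Agent.H464.RM.ZTP
import Cfsg.Agent.H573.RM.MonTwo

/-!
# S3849, P11: the Monster, `(2,7)`, `(2,11)`, `(2,13)` (helper23)
-/

set_option autoImplicit false
set_option maxRecDepth 100000

namespace Cfsg.Agent.H23.RM.Mon

open Subgroup Cfsg Cfsg.Agent.H464.RM Cfsg.Agent.H573.RM.Mon

universe u

theorem no2_m_7 {S : Type u} [Group S] [Finite S] (h : Spor.IsoM S) : ¬ H571.DExt.Dom ({2, 7} : Set ℕ) S :=
  nd_of (no_ztp' (a := 46) (b := 6) (m := 808017424794512875886459904961710757005754368000000000 / (2 ^ 46 * 7 ^ 6))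
    (zt_m h) (by norm_num) (by norm_num) ((card_m h).trans (by norm_num)) (by norm_num) (by norm_num) (by norm_num)
    (by decide +kernel))

theorem no2_m_11 {S : Type u} [Group S] [Finite S] (h : Spor.IsoM S) : ¬ H571.DExt.Dom ({2, 11} : Set ℕ) S :=
  nd_of (no_ztp' (a := 46) (b := 2) (m := 808017424794512875886459904961710757005754368000000000 / (2 ^ 46 * 11 ^ 2))
    (zt_m h) (by norm_num) (by norm_num) ((card_m h).trans (by norm_num)) (by norm_num) (by norm_num) (by norm_num)
    (by decide +kernel))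

theorem no2_m_13 {S : Type u} [Group S] [Finite S] (h : Spor.IsoM S) : ¬ H571.DExt.Dom ({2, 13} : Set ℕ) S :=
  nd_of (no_ztp' (a := 46) (b := 3) (m := 808017424794512875886459904961710757005754368000000000 / (2 ^ 46 * 13 ^ 3))
    (zt_m h) (by norm_num) (by norm_num) ((card_m h).trans (by norm_num)) (by norm_num) (by norm_num) (by norm_num)
    (by decide +kernel))

end Cfsg.Agent.H23.RM.Mon
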